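import Groth.Agent.LimLib.Props
import Groth.Agent.LimTop.Cons
import Mathlib.AlgebraicGeometry.Fiber
import Mathlib.AlgebraicGeometry.Morphisms.UniversallyInjective

/-! The morphisms induced on fibres, and loci defined through images. -/

set_option backward.isDefEq.respectTransparency false

universe u

open CategoryTheory Limits AlgebraicGeometry Topology

namespace Groth.Agent.EGA43Fib

variable {X Y S : Scheme.{u}} (f : X ⟶ Y) (g : Y ⟶ S)

/-- The morphism between fibres over `s` induced by `f`. -/
noncomputable abbrev fmap (s : S) :
    pullback (f ≫ g) (S.fromSpecResidueField s) ⟶ pullback g (S.fromSpecResidueField s) :=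
  pullback.lift (pullback.fst (f ≫ g) (S.fromSpecResidueField s) ≫ f)
    (pullback.snd (f ≫ g) (S.fromSpecResidueField s))
    ((Category.assoc _ _ _).trans pullback.condition)

lemma isPullback_fmap (s : S) :
    IsPullback (pullback.fst (f ≫ g) (S.fromSpecResidueField s)) (fmap f g s) f
      (pullback.fst g (S.fromSpecResidueField s)) := by
  refine IsPullback.of_bot ?_ (by simp [fmap]) (IsPullback.of_hasPullback g (S.fromSpecResidueField s))
  simpa [fmap] using IsPullback.of_hasPullback (f ≫ g) (S.fromSpecResidueField s)

/-- A base change `m` of `f` is surjective iff the image of the base change map lies in the range. -/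
lemma surjective_iff_of_isPullback {A B A' B' : Scheme.{u}} {p : A' ⟶ A} {m : A' ⟶ B'} {f : A ⟶ B}
    {q : B' ⟶ B} (h : IsPullback p m f q) :
    Function.Surjective m ↔ Set.range q ⊆ Set.range f := by
  have e : Set.range m = q ⁻¹' Set.range f := by
    rw [← Scheme.Pullback.range_snd, ← h.isoPullback_hom_snd]
    simp only [Scheme.Hom.comp_base, TopCat.coe_comp]
    rw [Function.Surjective.range_comp h.isoPullback.hom.surjective]
  rw [← Set.range_eq_univ, e, Set.preimage_eq_univ_iff]

variable {f g}

lemma range_fst_fiber (h : Y ⟶ S) (s : S) :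
    Set.range (pullback.fst h (S.fromSpecResidueField s)) = h ⁻¹' {s} := by
  rw [Scheme.Pullback.range_fst, Scheme.range_fromSpecResidueField]

/-- Constructibility of `{s | h⁻¹(s) ⊆ T}`. -/
lemma isLocallyConstructible_setOf_fibre_subset (h : Y ⟶ S) [LocallyOfFinitePresentation h]
    [QuasiCompact h] {T : Set Y} (hT : IsLocallyConstructible T) :
    IsLocallyConstructible {s : S | h ⁻¹' {s} ⊆ T} := by
  have e : {s : S | h ⁻¹' {s} ⊆ T} = (h '' Tᶜ)ᶜ := by
    ext s
    simp only [Set.mem_setOf_eq, Set.mem_compl_iff, Set.mem_image, not_exists, not_and]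
    exact ⟨fun H y hy hys => hy (H hys), fun H y hys => by_contra fun hy => H y hy hys⟩
  rw [e]
  exact LimTop.isLocallyConstructible_compl
    (h.isLocallyConstructible_image (LimTop.isLocallyConstructible_compl hT))

lemma isLocallyConstructible_range (h : Y ⟶ S) [LocallyOfFinitePresentation h] [QuasiCompact h] :
    IsLocallyConstructible (Set.range h) := by
  rw [← Set.image_univ]
  exact h.isLocallyConstructible_image IsConstructible.univ.isLocallyConstructible

variable (f g)

lemma surjective_fmap_iff (s : S) :
    Function.Surjective (fmap f g s) ↔ g ⁻¹' {s} ⊆ Set.range f := by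
  rw [surjective_iff_of_isPullback (isPullback_fmap f g s), range_fst_fiber]

lemma universallyInjective_fmap_iff (s : S) :
    UniversallyInjective (fmap f g s) ↔
      (pullback.fst f f ≫ f ≫ g) ⁻¹' {s} ⊆ Set.range (pullback.diagonal f) := by
  have h := isPullback_fmap f g s
  have hd := LimLib.isPullback_diagonal h
  rw [UniversallyInjective.iff_diagonal, surjective_iff,
    surjective_iff_of_isPullback hd]
  suffices e : Set.range (pullback.map (fmap f g s) (fmap f g s) f f
      (pullback.fst (f ≫ g) (S.fromSpecResidueField s)) (pullback.fst (f ≫ g) (S.fromSpecResidueField s))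
      (pullback.fst g (S.fromSpecResidueField s)) h.w.symm h.w.symm) =
      (pullback.fst f f ≫ f ≫ g) ⁻¹' {s} by rw [e]
  have h2 := (LimLib.isPullback_map_diag h).paste_vert
    (IsPullback.of_hasPullback g (S.fromSpecResidueField s))
  rw [← Category.assoc, ← range_fst_fiber, ← h2.isoPullback_hom_fst]
  simp only [Scheme.Hom.comp_base, TopCat.coe_comp]
  rw [Function.Surjective.range_comp h2.isoPullback.hom.surjective]

end Groth.Agent.EGA43Fib
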